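import Cfsg.Agent.H490.Gen.PsuInner
import Cfsg.Agent.H557.Gp.NC

/-!
# S2187: the non-commuting rows of helper557 in matrix form (helper490)

* `toV` : `GL_n(F) ≃* Aut_F(F^n)`;
* `ncRow_lin`, `ncRow_uni` : `NCRow` from `LinearNC`, `UnitaryNC`.
-/

set_option autoImplicit false
set_option linter.unusedSectionVars false

namespace Cfsg.Agent.H490.Gen

open Cfsg Subgroup Matrix
open Cfsg.Agent.H847.Bs Cfsg.Agent.H557.Gp

section toV

variable {F : Type*} [Field F] {n : ℕ}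

/-- matrices as linear automorphisms -/
noncomputable def toV (n : ℕ) (F : Type*) [Field F] : GL (Fin n) F ≃* ((Fin n → F) ≃ₗ[F] (Fin n → F)) :=
  Matrix.GeneralLinearGroup.toLin.trans (LinearMap.GeneralLinearGroup.generalLinearEquiv F (Fin n → F))

theorem toV_apply (g : GL (Fin n) F) (v : Fin n → F) : toV n F g v = (g : Matrix (Fin n) (Fin n) F) *ᵥ v := rfl

theorem toV_det (g : GL (Fin n) F) : LinearMap.det (toV n F g : (Fin n → F) →ₗ[F] (Fin n → F)) =
    (g : Matrix (Fin n) (Fin n) F).det := by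
  have h1 : (toV n F g : (Fin n → F) →ₗ[F] (Fin n → F)) = Matrix.toLin' (g : Matrix (Fin n) (Fin n) F) :=
    LinearMap.ext fun v => by rw [toLin'_apply]; exact toV_apply g v
  rw [h1, LinearMap.det_toLin']

theorem mem_sl {g : GL (Fin n) F} : g ∈ Geo.specialLinear (Fin n) F ↔
    LinearMap.det (toV n F g : (Fin n → F) →ₗ[F] (Fin n → F)) = 1 := by
  rw [toV_det, Geo.specialLinear, MonoidHom.mem_ker, Units.ext_iff]
  exact Iff.rfl

theorem mem_sc {g : GL (Fin n) F} : g ∈ Geo.scalars (Fin n) F ↔ ∃ c : F, ∀ v, toV n F g v = c • v := by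
  rw [Geo.mem_scalars_iff]
  constructor
  · rintro ⟨c, hc⟩
    exact ⟨c, fun v => by rw [toV_apply, hc, smul_mulVec, one_mulVec]⟩
  · rintro ⟨c, hc⟩
    have h1 : (g : Matrix (Fin n) (Fin n) F) = c • (1 : Matrix (Fin n) (Fin n) F) := by
      rw [← Matrix.mulVec_injective.eq_iff]
      funext v
      rw [smul_mulVec, one_mulVec, ← toV_apply]
      exact hc v
    by_cases h0 : c = 0
    · refine ⟨1, ?_⟩
      rw [h0, zero_smul] at h1
      have h2 : (1 : Matrix (Fin n) (Fin n) F) = 0 := by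
        have h3 : (g : Matrix (Fin n) (Fin n) F) * ((g⁻¹ : GL (Fin n) F) : Matrix (Fin n) (Fin n) F) = 1 := by
          rw [← Units.val_mul, mul_inv_cancel, Units.val_one]
        rw [h1, Matrix.zero_mul] at h3
        exact h3.symm
      rw [h1, h2, smul_zero]
    · exact ⟨Units.mk0 c h0, h1⟩

variable {p : ℕ} {G A N : Subgroup (GL (Fin n) F)}

theorem nc_of (hA : A ≤ G) (hsc : G ⊓ Geo.scalars (Fin n) F ≤ A) (hpow : ∀ x ∈ A, x ^ p ∈ Geo.scalars (Fin n) F)
    (hcc : ∀ x ∈ A, ∀ y ∈ A, x * y * x⁻¹ * y⁻¹ ∈ Geo.scalars (Fin n) F) (hnc : ∃ x ∈ A, ∃ y ∈ A, x * y ≠ y * x) :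
    NC p (G.map (toV n F).toMonoidHom) (A.map (toV n F).toMonoidHom) where
  le := map_mono hA
  scal := by
    rintro _ ⟨g, hg, rfl⟩ hc
    exact ⟨g, hsc ⟨hg, mem_sc.2 hc⟩, rfl⟩
  pow := by
    rintro _ ⟨x, hx, rfl⟩
    obtain ⟨c, hc⟩ := mem_sc.1 (hpow x hx)
    refine ⟨c, fun v => ?_⟩
    rw [← hc v, map_pow]
    rfl
  comm := by
    rintro _ ⟨x, hx, rfl⟩ _ ⟨y, hy, rfl⟩
    obtain ⟨c, hc⟩ := mem_sc.1 (hcc x hx y hy)
    refine ⟨c, fun v => ?_⟩
    have h1 := hc (toV n F (y * x) v)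
    rw [← LinearEquiv.mul_apply, ← map_mul] at h1
    have h2 : x * y * x⁻¹ * y⁻¹ * (y * x) = x * y := by group
    rw [h2, map_mul, map_mul] at h1
    exact h1
  nc := by
    obtain ⟨x, hx, y, hy, hxy⟩ := hnc
    refine ⟨toV n F x, ⟨x, hx, rfl⟩, toV n F y, ⟨y, hy, rfl⟩, fun h => hxy ((toV n F).injective ?_)⟩
    rw [map_mul, map_mul, h]

theorem hyps_of (hHC : HC p (G ⊓ Geo.scalars (Fin n) F) A (G ⊓ Geo.specialLinear (Fin n) F) N) :
    Hyps p (G.map (toV n F).toMonoidHom) (A.map (toV n F).toMonoidHom) (N.map (toV n F).toMonoidHom) := by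
  intro D hD hs hi g hg hdet hcomm
  obtain ⟨s, hs', rfl⟩ := hg
  obtain ⟨K, rfl⟩ : ∃ K : Subgroup (GL (Fin n) F), K.map (toV n F).toMonoidHom = D :=
    ⟨D.comap (toV n F).toMonoidHom, map_comap_eq_self_of_surjective (toV n F).surjective D⟩
  rw [map_le_map_iff_of_injective (toV n F).injective] at hD
  rw [relIndex_map_map_of_injective _ _ (toV n F).injective] at hi
  refine ⟨s, hHC K hD ?_ hi s ⟨hs', mem_sl.2 hdet⟩ ?_, rfl⟩
  · intro z hz
    obtain ⟨y, hy, hyz⟩ := hs (toV n F z) ⟨z, hz.1, rfl⟩ (mem_sc.1 hz.2)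
    rwa [← (toV n F).injective hyz]
  · intro f hf
    apply (toV n F).injective
    rw [map_mul, map_mul]
    exact hcomm (toV n F f) ⟨f, hf, rfl⟩

end toV

/-- **the linear row** -/
theorem ncRow_lin {F : Type} [Field F] [Fintype F] {p n : ℕ} (h : LinearNC.{0, 0} p) (h7 : 7 ≤ p ∨ (2 : F) ≠ 0) :
    NCRow p (⊤ : Subgroup (GL (Fin n) F)) fun W => W = ⊥ ∨ W = ⊤ := by
  intro A hA hsc hpow hcc hnc hinv N _ hHC s hs
  have htop : (⊤ : Subgroup (GL (Fin n) F)).map (toV n F).toMonoidHom = ⊤ := by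
    rw [← MonoidHom.range_eq_map, MonoidHom.range_eq_top.2 (toV n F).surjective]
  have h1 := nc_of hA hsc hpow hcc hnc
  have h2 := hyps_of hHC
  rw [htop] at h1 h2
  obtain ⟨t, ht, hts⟩ := h h7 h1 h2 (fun W hW => hinv W fun f hf w hw => hW _ ⟨f, hf, rfl⟩ w hw) (toV n F s)
    (mem_sl.1 hs.2)
  rwa [← (toV n F).injective hts]

section uni

variable {F : Type} [Field F] [Fintype F] {n q : ℕ}

/-- the hermitian form as a `Frm` -/
def hFrm (n : ℕ) {q : ℕ} (hF : Fintype.card F = q ^ 2) : Frm F (Fin n → F) where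
  B := hermForm n F q
  q _ := 0
  s a := a ^ q
  add_left x y z := LieClassical.HermBasic.herm_add_left x y z
  add_right x y z := LieClassical.HermBasic.herm_add_right hF x y z
  smul_left a x y := LieClassical.HermBasic.herm_smul_left a x y
  smul_right a x y := LieClassical.HermBasic.herm_smul_right a x y
  refl _ _ h := LieClassical.HermBasic.herm_eq_zero_swap hF h
  q_add _ _ _ := (add_zero 0).symm

theorem hFrm_isHerm (n : ℕ) {q : ℕ} (hF : Fintype.card F = q ^ 2) : IsHerm q (hFrm n hF) where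
  nd _ h := LieClassical.HermBasic.herm_nondeg hF h
  card := by rw [Nat.card_eq_fintype_card, hF]
  s _ := rfl
  q _ := rfl
  symm x y := LieClassical.HermBasic.herm_swap hF x y

theorem map_GU (hF : Fintype.card F = q ^ 2) : (GU n F q).map (toV n F).toMonoidHom = (hFrm n hF).Iso := by
  ext g
  constructor
  · rintro ⟨s, hs, rfl⟩
    exact ⟨fun x y => hs x y, fun _ => rfl⟩
  · rintro ⟨hg, -⟩
    obtain ⟨s, rfl⟩ := (toV n F).surjective g
    exact ⟨s, fun x y => hg x y, rfl⟩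

/-- **the unitary row** -/
theorem ncRow_uni {p : ℕ} (h : UnitaryNC.{0, 0} p) (hF : Fintype.card F = q ^ 2) (h7 : 7 ≤ p ∨ (2 : F) ≠ 0) :
    NCRow p (GU n F q) fun W => TI n F q W → W = ⊥ := by
  intro A hA hsc hpow hcc hnc hinv N _ hHC s hs
  have h1 := nc_of hA hsc hpow hcc hnc
  have h2 := hyps_of hHC
  rw [map_GU hF] at h1 h2
  have h3 : toV n F s ∈ (hFrm n hF).Iso := by
    rw [← map_GU hF]
    exact ⟨s, hs.1, rfl⟩
  obtain ⟨t, ht, hts⟩ := h (hFrm_isHerm n hF) h7 h1 h2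
    (fun W hW hTI => hinv W (fun f hf w hw => hW _ ⟨f, hf, rfl⟩ w hw) hTI.1) (toV n F s) h3 (mem_sl.1 hs.2)
  rwa [← (toV n F).injective hts]

end uni

end Cfsg.Agent.H490.Gen
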