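import Cfsg.Agent.H818.Gen.Defs
import Cfsg.Prelude.Def_GeometricClasses

/-!
# S2187, rows psl and psu: from `Gam p E` to linear groups (helper490)

`HC p Z A S N` : `N` contains the elements of `S` which commute with a subgroup `K` of `A` of index `p` with `Z ≤ K`.
-/

set_option autoImplicit false
set_option linter.unusedSectionVars false

open Cfsg Subgroup
open Cfsg.Agent.H818.Gen

namespace Cfsg.Agent.H490.Gen

/-- `N` contains the centralizers in `S` of the hyperplanes of `A` modulo `Z` -/
def HC {Γ : Type*} [Group Γ] (p : ℕ) (Z A S N : Subgroup Γ) : Prop :=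
  ∀ K ≤ A, Z ≤ K → K.relIndex A = p → ∀ s ∈ S, (∀ f ∈ K, s * f = f * s) → s ∈ N

theorem HC.mono_N {Γ : Type*} [Group Γ] {p : ℕ} {Z A S N N' : Subgroup Γ} (h : HC p Z A S N) (hN : N ≤ N') :
    HC p Z A S N' := fun K hK hZ hi s hs hf => hN (h K hK hZ hi s hs hf)

/-- **translation**: `Γ` acts on `G` by `ρ`, `G` is a quotient of `S ≤ Γ`, and `ρ γ` is induced by conjugation with `γ` -/
theorem gam_of_lin {G Γ : Type*} [Group G] [Group Γ] {p : ℕ} (ρ : Γ →* MulAut G) (S : Subgroup Γ) (π : ↥S →* G)
    (hπ : Function.Surjective π) (hρ : ∀ (γ : Γ) (s t : ↥S), (t : Γ) = γ * s * γ⁻¹ → ρ γ (π s) = π t) (A : Subgroup Γ)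
    (hZ : ρ.ker ≤ A) (h : ∀ N : Subgroup Γ, N ≤ S → HC p ρ.ker A S N → S ≤ N) : Gam p (A.map ρ) = ⊤ := by
  have h1 := h (((Gam p (A.map ρ)).comap π).map S.subtype) (map_subtype_le _) (by
    intro K hK hZK hi s hs hf
    refine ⟨⟨s, hs⟩, ?_, rfl⟩
    rw [SetLike.mem_coe, mem_comap]
    refine CF_le_Gam' (F := K.map ρ) (map_mono hK) ?_ ?_
    · rw [relIndex_map_map, sup_eq_left.2 hZK, sup_eq_left.2 hZ, hi]
    · rintro _ ⟨f, hf', rfl⟩
      rw [hρ f ⟨s, hs⟩ ⟨s, hs⟩]
      show s = f * s * f⁻¹
      rw [← hf f hf', mul_inv_cancel_right])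
  rw [eq_top_iff]
  intro g _
  obtain ⟨s, rfl⟩ := hπ g
  obtain ⟨t, ht, hts⟩ := h1 s.2
  rw [show s = t from Subtype.ext hts.symm]
  exact ht

/-! ### commuting families in general -/

/-- an abelian group of matrices without invariant subspaces is cyclic -/
theorem cyclic_of_irred {F V : Type*} [Field F] [AddCommGroup V] [Module F V] [FiniteDimensional F V] [Nontrivial V]
    {A : Type*} [Group A] [Finite A] (f : A →* (Module.End F V)) (hf : Function.Injective f)
    (hc : ∀ a b : A, f a * f b = f b * f a)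
    (hirr : ∀ W : Submodule F V, (∀ a : A, ∀ w ∈ W, f a w ∈ W) → W = ⊥ ∨ W = ⊤) : IsCyclic A := by
  classical
  let R : Subalgebra F (Module.End F V) := Algebra.adjoin F (Set.range f)
  have hcR : ∀ x ∈ R, ∀ y ∈ R, x * y = y * x := by
    intro x hx y hy
    have h1 : ∀ a ∈ Set.range f, ∀ b ∈ Set.range f, a * b = b * a := by
      rintro _ ⟨a, rfl⟩ _ ⟨b, rfl⟩
      exact hc a b
    exact congrArg Subtype.val ((Algebra.adjoinCommRingOfComm F h1).mul_comm ⟨x, hx⟩ ⟨y, hy⟩)
  have hinj : ∀ x ∈ R, x ≠ 0 → LinearMap.ker x = ⊥ := by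
    intro x hx hx0
    rcases hirr (LinearMap.ker x) (fun a w hw => by
      rw [LinearMap.mem_ker] at hw ⊢
      have h1 := hcR x hx (f a) (Algebra.subset_adjoin ⟨a, rfl⟩)
      have h2 : x (f a w) = f a (x w) := congrArg (fun y : Module.End F V => y w) h1
      rw [h2, hw, map_zero]) with h | h
    · exact h
    · exact absurd (LinearMap.ker_eq_top.1 h) hx0
  let _ : CommRing R := { (inferInstance : Ring R) with mul_comm := fun x y => Subtype.ext (hcR x x.2 y y.2) }
  have hnt : Nontrivial R := ⟨⟨0, 1, fun h => by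
    have h1 : (0 : Module.End F V) = 1 := congrArg Subtype.val h
    obtain ⟨v, hv⟩ := exists_ne (0 : V)
    exact hv (by
      have := congrArg (fun y : Module.End F V => y v) h1
      exact this.symm)⟩⟩
  have hdom : IsDomain R := by
    have : NoZeroDivisors R := ⟨fun {a b} hab => by
      by_cases ha : a = 0
      · exact Or.inl ha
      right
      have h1 : (a : Module.End F V) ≠ 0 := fun h => ha (Subtype.ext h)
      have h2 := hinj a a.2 h1
      refine Subtype.ext (LinearMap.ext fun v => ?_)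
      have h3 : (a : Module.End F V) ((b : Module.End F V) v) = 0 := by
        have := congrArg (fun y : R => (y : Module.End F V) v) hab
        exact this
      have h4 : (b : Module.End F V) v ∈ LinearMap.ker (a : Module.End F V) := h3
      rw [h2] at h4
      exact h4⟩
    exact NoZeroDivisors.to_isDomain _
  let g : A →* R :=
    { toFun := fun a => ⟨f a, Algebra.subset_adjoin ⟨a, rfl⟩⟩
      map_one' := Subtype.ext (map_one f)
      map_mul' := fun a b => Subtype.ext (map_mul f a b) }
  exact isCyclic_of_injective_ringHom g fun a b h => hf (congrArg Subtype.val h)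

end Cfsg.Agent.H490.Gen
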