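import Cfsg.Agent.H490.Gen.Lin
import Cfsg.Agent.H818.Gen.Rows
import Cfsg.Agent.H522.Gen.OppGam
import Cfsg.Agent.H199.PslAut
import Cfsg.Agent.CpAutU.Row

/-!
# S2187, row `PSL_n(q)`: groups of inner-diagonal automorphisms (helper490)
-/

set_option autoImplicit false
set_option linter.unusedSectionVars false

namespace Cfsg.Agent.H490.Gen

open Cfsg Subgroup Matrix
open Cfsg.Agent.H818.Gen Cfsg.Agent.H199.PslAut
open Cfsg.Agent.ClassicalGeometry.AutPSL.Root Cfsg.Agent.ClassicalGeometry.AutPSL.Auto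

/-! ### the unipotent group of a subspace -/

section uni

variable {n : ℕ} {F : Type*} [Field F]

/-- the elements acting trivially on `W` and `V / W` -/
def uniL (W : Submodule F (Fin n → F)) : Subgroup (GL (Fin n) F) where
  carrier := {g | (∀ v, (g : Matrix (Fin n) (Fin n) F) *ᵥ v - v ∈ W) ∧ ∀ w ∈ W, (g : Matrix (Fin n) (Fin n) F) *ᵥ w = w}
  one_mem' := ⟨fun v => by
    rw [Units.val_one, one_mulVec, sub_self]
    exact W.zero_mem, fun w _ => by rw [Units.val_one, one_mulVec]⟩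
  mul_mem' := by
    rintro a b ⟨ha, ha'⟩ ⟨hb, hb'⟩
    refine ⟨fun v => ?_, fun w hw => ?_⟩
    · rw [Units.val_mul, ← mulVec_mulVec]
      have h1 : (a : Matrix (Fin n) (Fin n) F) *ᵥ ((b : Matrix (Fin n) (Fin n) F) *ᵥ v) - v =
          ((a : Matrix (Fin n) (Fin n) F) *ᵥ ((b : Matrix (Fin n) (Fin n) F) *ᵥ v) - (b : Matrix (Fin n) (Fin n) F) *ᵥ v) +
          ((b : Matrix (Fin n) (Fin n) F) *ᵥ v - v) := by abel
      rw [h1]
      exact W.add_mem (ha _) (hb _)
    · rw [Units.val_mul, ← mulVec_mulVec, hb' w hw, ha' w hw]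
  inv_mem' := by
    rintro a ⟨ha, ha'⟩
    have hinv : ∀ v, (a : Matrix (Fin n) (Fin n) F) *ᵥ (((a⁻¹ : GL (Fin n) F) : Matrix (Fin n) (Fin n) F) *ᵥ v) = v := by
      intro v
      rw [mulVec_mulVec, ← Units.val_mul, mul_inv_cancel, Units.val_one, one_mulVec]
    have hinv' : ∀ v, ((a⁻¹ : GL (Fin n) F) : Matrix (Fin n) (Fin n) F) *ᵥ ((a : Matrix (Fin n) (Fin n) F) *ᵥ v) = v := by
      intro v
      rw [mulVec_mulVec, ← Units.val_mul, inv_mul_cancel, Units.val_one, one_mulVec]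
    have hW : ∀ w ∈ W, ((a⁻¹ : GL (Fin n) F) : Matrix (Fin n) (Fin n) F) *ᵥ w = w := by
      intro w hw
      conv_lhs => rw [← ha' w hw]
      exact hinv' w
    refine ⟨fun v => ?_, hW⟩
    have h1 := ha (((a⁻¹ : GL (Fin n) F) : Matrix (Fin n) (Fin n) F) *ᵥ v)
    rw [hinv] at h1
    have h2 := W.neg_mem h1
    rwa [neg_sub] at h2

theorem uniL_pow {W : Submodule F (Fin n → F)} {g : GL (Fin n) F} (hg : g ∈ uniL W) (k : ℕ)
    (v : Fin n → F) : ((g ^ k : GL (Fin n) F) : Matrix (Fin n) (Fin n) F) *ᵥ v =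
      v + (k : F) • ((g : Matrix (Fin n) (Fin n) F) *ᵥ v - v) := by
  induction k with
  | zero =>
    rw [pow_zero, Nat.cast_zero, zero_smul, add_zero, Units.val_one, one_mulVec]
  | succ k ih =>
    rw [pow_succ', Units.val_mul, ← mulVec_mulVec, ih, mulVec_add, mulVec_smul, hg.2 _ (hg.1 v)]
    push_cast
    module

theorem gl_ext {a b : GL (Fin n) F} (h : ∀ v, (a : Matrix (Fin n) (Fin n) F) *ᵥ v = (b : Matrix (Fin n) (Fin n) F) *ᵥ v) :
    a = b := by
  apply Units.ext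
  rw [← Matrix.mulVec_injective.eq_iff]
  funext v
  exact h v

theorem uniL_pow_char {W : Submodule F (Fin n → F)} {g : GL (Fin n) F} (hg : g ∈ uniL W) (r : ℕ)
    [CharP F r] : g ^ r = 1 := by
  apply gl_ext
  intro v
  rw [uniL_pow hg, CharP.cast_eq_zero, zero_smul, add_zero, Units.val_one, one_mulVec]

theorem conj_mem_uniL {W : Submodule F (Fin n → F)} {a : GL (Fin n) F}
    (ha : ∀ w ∈ W, (a : Matrix (Fin n) (Fin n) F) *ᵥ w ∈ W)
    (ha' : ∀ w ∈ W, ((a⁻¹ : GL (Fin n) F) : Matrix (Fin n) (Fin n) F) *ᵥ w ∈ W)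
    {g : GL (Fin n) F} (hg : g ∈ uniL W) : a * g * a⁻¹ ∈ uniL W := by
  have hinv : ∀ v, (a : Matrix (Fin n) (Fin n) F) *ᵥ (((a⁻¹ : GL (Fin n) F) : Matrix (Fin n) (Fin n) F) *ᵥ v) = v := by
    intro v
    rw [mulVec_mulVec, ← Units.val_mul, mul_inv_cancel, Units.val_one, one_mulVec]
  refine ⟨fun v => ?_, fun w hw => ?_⟩
  · rw [Units.val_mul, Units.val_mul, ← mulVec_mulVec, ← mulVec_mulVec]
    have h1 := ha _ (hg.1 (((a⁻¹ : GL (Fin n) F) : Matrix (Fin n) (Fin n) F) *ᵥ v))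
    rwa [mulVec_sub, hinv] at h1
  · rw [Units.val_mul, Units.val_mul, ← mulVec_mulVec, ← mulVec_mulVec, hg.2 _ (ha' w hw), hinv]

/-- there is a transvection in `uniL W`, neither scalar nor trivial, with determinant one -/
theorem exists_transv {W : Submodule F (Fin n → F)} (h0 : W ≠ ⊥) (h1 : W ≠ ⊤) :
    ∃ s : Matrix.SpecialLinearGroup (Fin n) F, (s : GL (Fin n) F) ∈ uniL W ∧
      ∀ c : F, (s : Matrix (Fin n) (Fin n) F) ≠ scalar (Fin n) c := by
  obtain ⟨w, hw, hw0⟩ := (Submodule.ne_bot_iff W).1 h0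
  obtain ⟨f, hf0, hf⟩ := Submodule.exists_le_ker_of_lt_top W (lt_top_iff_ne_top.2 h1)
  obtain ⟨c, hc⟩ : ∃ c : Fin n → F, ∀ v, f v = c ⬝ᵥ v := by
    refine ⟨fun i => f (Pi.single i 1), fun v => ?_⟩
    conv_lhs => rw [← Finset.univ_sum_single v]
    rw [map_sum]
    refine Finset.sum_congr rfl fun i _ => ?_
    have : (Pi.single i (v i) : Fin n → F) = v i • Pi.single i 1 := by
      rw [← Pi.single_smul', smul_eq_mul, mul_one]
    rw [this, map_smul, smul_eq_mul, mul_comm]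
  have hcw : c ⬝ᵥ w = 0 := by rw [← hc]; exact hf hw
  have hmul : ∀ v, (1 + vecMulVec w c) *ᵥ v = v + (c ⬝ᵥ v) • w := by
    intro v
    rw [add_mulVec, one_mulVec, vecMulVec_mulVec]
    simp
  have hdet : (1 + vecMulVec w c).det = 1 := by
    rw [vecMulVec_eq Unit, det_one_add_replicateCol_mul_replicateRow, hcw, add_zero]
  refine ⟨⟨1 + vecMulVec w c, hdet⟩, ⟨fun v => ?_, fun v hv => ?_⟩, ?_⟩
  · show (1 + vecMulVec w c) *ᵥ v - v ∈ W
    rw [hmul, add_sub_cancel_left]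
    exact W.smul_mem _ hw
  · show (1 + vecMulVec w c) *ᵥ v = v
    rw [hmul, ← hc, show f v = 0 from hf hv, zero_smul, add_zero]
  · intro d hd
    have hd' : 1 + vecMulVec w c = scalar (Fin n) d := hd
    have h2 := hmul w
    rw [hcw, zero_smul, add_zero, hd', scalar_apply] at h2
    have h3 : d • w = w := by
      rw [← h2, ← smul_one_eq_diagonal, smul_mulVec, one_mulVec]
      rw [← smul_one_eq_diagonal, smul_mulVec, one_mulVec] at h2
      exact congrArg _ (by rw [h2])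
    have hd1 : d = 1 := by
      have h4 : (d - 1) • w = 0 := by rw [sub_smul, one_smul, h3, sub_self]
      rcases smul_eq_zero.1 h4 with h5 | h5
      · exact sub_eq_zero.1 h5
      · exact absurd h5 hw0
    apply hf0
    ext v
    have h5 := hmul (Pi.single v 1)
    rw [hd', hd1, map_one, one_mulVec] at h5
    have h6 : (c ⬝ᵥ (Pi.single v 1 : Fin n → F)) • w = 0 := by
      have := h5.symm
      rwa [add_eq_left] at this
    rcases smul_eq_zero.1 h6 with h7 | h7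
    · rw [LinearMap.comp_apply, LinearMap.single_apply, hc, h7]
      rfl
    · exact absurd h7 hw0

end uni

/-! ### elementary abelian groups are not cyclic -/

theorem not_cyclic {X : Type*} [Group X] {p : ℕ} [hp : Fact p.Prime] {E : Subgroup X} (hE : IsElementaryAbelian p E)
    (hc : p ^ 2 ≤ Nat.card E) (h : IsCyclic ↥E) : False := by
  obtain ⟨g, hg⟩ := h.exists_generator
  have h1 : orderOf g ∣ p := orderOf_dvd_of_pow_eq_one (Subtype.ext (hE.2 g g.2))
  have h2 : Nat.card ↥E = orderOf g := (orderOf_eq_card_of_forall_mem_zpowers hg).symm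
  have h3 := Nat.le_of_dvd hp.out.pos h1
  rw [h2] at hc
  nlinarith [hp.out.one_lt]

/-- the irreducible non-commuting case for the group `S ≤ GL_n(F)` (`G` the group of the isometries) -/
def NCRow (p : ℕ) {n : ℕ} {F : Type*} [Field F] (G : Subgroup (GL (Fin n) F)) (P : Submodule F (Fin n → F) → Prop) : Prop :=
  ∀ A : Subgroup (GL (Fin n) F), A ≤ G → G ⊓ Geo.scalars (Fin n) F ≤ A → (∀ x ∈ A, x ^ p ∈ Geo.scalars (Fin n) F) →
    (∀ x ∈ A, ∀ y ∈ A, x * y * x⁻¹ * y⁻¹ ∈ Geo.scalars (Fin n) F) → (∃ x ∈ A, ∃ y ∈ A, x * y ≠ y * x) →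
    (∀ W : Submodule F (Fin n → F), (∀ f ∈ A, ∀ w ∈ W, (f : Matrix (Fin n) (Fin n) F) *ᵥ w ∈ W) → P W) →
    ∀ N : Subgroup (GL (Fin n) F), N ≤ G ⊓ Geo.specialLinear (Fin n) F →
      HC p (G ⊓ Geo.scalars (Fin n) F) A (G ⊓ Geo.specialLinear (Fin n) F) N → G ⊓ Geo.specialLinear (Fin n) F ≤ N

/-! ### `PSL_n(F)` -/

section row

variable {F : Type} [Field F] [Fintype F] {n : ℕ}

/-- the element of `SL_n(F)` -/
def toSL (s : ↥(⊤ ⊓ Geo.specialLinear (Fin n) F : Subgroup (GL (Fin n) F))) : Matrix.SpecialLinearGroup (Fin n) F :=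
  ⟨((s : GL (Fin n) F) : Matrix (Fin n) (Fin n) F), by
    have h1 := MonoidHom.mem_ker.1 (mem_inf.1 s.2).2
    have h2 := congrArg (fun u : Fˣ => (u : F)) h1
    exact h2⟩

/-- the map onto `PSL_n(F)` -/
noncomputable def piL : ↥(⊤ ⊓ Geo.specialLinear (Fin n) F : Subgroup (GL (Fin n) F)) →*
    Matrix.ProjectiveSpecialLinearGroup (Fin n) F where
  toFun s := pr (toSL s)
  map_one' := by
    rw [show toSL (1 : ↥(⊤ ⊓ Geo.specialLinear (Fin n) F : Subgroup (GL (Fin n) F))) = 1 from Subtype.ext rfl, map_one]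
  map_mul' a b := by
    rw [← map_mul, show toSL (a * b) = toSL a * toSL b from Subtype.ext rfl]

theorem piL_surj : Function.Surjective (piL (F := F) (n := n)) := by
  intro x
  obtain ⟨s, rfl⟩ := pr_surjective x
  refine ⟨⟨(s : GL (Fin n) F), mem_inf.2 ⟨mem_top _, MonoidHom.mem_ker.2 (Units.ext s.2)⟩⟩, ?_⟩
  exact congrArg pr (Subtype.ext rfl)

theorem ker_Psi (hn : 2 ≤ n) : (Psi n F).ker = (⊤ ⊓ Geo.scalars (Fin n) F : Subgroup (GL (Fin n) F)) := by
  ext g
  rw [MonoidHom.mem_ker, Psi_eq_one_iff hn, top_inf_eq]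
  constructor
  · rintro ⟨u, rfl⟩
    exact ⟨u, rfl⟩
  · rintro ⟨u, rfl⟩
    exact ⟨u, rfl⟩

/-- **the reducible case** -/
theorem reducible {r p : ℕ} [CharP F r] (hC : Cond r p) (hn : 2 ≤ n) (h4 : n = 2 → 4 ≤ Fintype.card F)
    {E : Subgroup (MulAut (Matrix.ProjectiveSpecialLinearGroup (Fin n) F))} (hE : IsElementaryAbelian p E)
    (hc : p ^ 2 ≤ Nat.card E) {W : Submodule F (Fin n → F)} (h0 : W ≠ ⊥) (h1 : W ≠ ⊤)
    (hW : ∀ α ∈ E, ∃ a : GL (Fin n) F, Psi n F a = α ∧ (∀ w ∈ W, (a : Matrix (Fin n) (Fin n) F) *ᵥ w ∈ W) ∧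
      ∀ w ∈ W, ((a⁻¹ : GL (Fin n) F) : Matrix (Fin n) (Fin n) F) *ᵥ w ∈ W) : Gam p E = ⊤ := by
  have hr : Fact r.Prime := ⟨hC.r_prime⟩
  have hp : Fact p.Prime := ⟨hC.p_prime⟩
  have hsimple : IsSimpleGroup (Matrix.ProjectiveSpecialLinearGroup (Fin n) F) := CpAut.PslRow.isSimple (E := F) hn h4
  have hfilt : KFacts.RgdFilt.HasFilt r (Matrix.ProjectiveSpecialLinearGroup (Fin n) F) :=
    KFacts.RgdLieCharP.hasFilt_of_lie (Or.inl ⟨F, inferInstance, inferInstance, inferInstance, n, hn, h4,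
      ⟨MulEquiv.refl _⟩⟩)
  have hnc : ∃ a b : Matrix.ProjectiveSpecialLinearGroup (Fin n) F, a * b ≠ b * a := by
    by_contra hcon
    push Not at hcon
    exact CpAut.Fix.not_comm_quot (H := Matrix.SpecialLinearGroup (Fin n) F) ⟨⟨hcon⟩⟩
  let U : Subgroup (Matrix.SpecialLinearGroup (Fin n) F) := (uniL W).comap Matrix.SpecialLinearGroup.toGL
  have hmap : ∀ α ∈ E, (U.map pr).map α.toMonoidHom ≤ U.map pr := by
    rintro α hα _ ⟨_, ⟨u, hu, rfl⟩, rfl⟩
    obtain ⟨a, rfl, ha, ha'⟩ := hW α hα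
    refine ⟨cj a u, ?_, rfl⟩
    show Matrix.SpecialLinearGroup.toGL (cj a u) ∈ uniL W
    have h2 : Matrix.SpecialLinearGroup.toGL (cj a u) = a * Matrix.SpecialLinearGroup.toGL u * a⁻¹ :=
      Units.ext (by rw [Units.val_mul, Units.val_mul]; exact coe_cj a u)
    rw [h2]
    exact conj_mem_uniL ha ha' hu
  refine H522.Gen.top_of_filt hfilt hnc hC.p_ne_r hE hc (K := U.map pr) ?_ ?_ ?_
  · rintro ⟨_, u, hu, rfl⟩
    refine ⟨1, Subtype.ext ?_⟩
    show (pr u) ^ r ^ 1 = 1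
    rw [pow_one, ← map_pow]
    have h2 : Matrix.SpecialLinearGroup.toGL (u ^ r) = 1 := by
      rw [map_pow]
      exact uniL_pow_char (show Matrix.SpecialLinearGroup.toGL u ∈ uniL W from hu) r
    have h3 : u ^ r = 1 := Subtype.ext (congrArg (fun g : GL (Fin n) F => (g : Matrix (Fin n) (Fin n) F)) h2)
    rw [h3, map_one]
  · intro hbot
    obtain ⟨s, hs, hs'⟩ := exists_transv h0 h1
    have h2 : pr s ∈ U.map pr := ⟨s, hs, rfl⟩
    rw [hbot, mem_bot] at h2
    have h3 : s ∈ center (Matrix.SpecialLinearGroup (Fin n) F) := by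
      have := (QuotientGroup.eq_one_iff s).1 h2
      exact this
    obtain ⟨c, -, hc⟩ := Matrix.SpecialLinearGroup.mem_center_iff.1 h3
    exact hs' c hc.symm
  · intro α hα
    apply le_antisymm (hmap α hα)
    intro x hx
    have h2 := hmap α⁻¹ (E.inv_mem hα) ⟨x, hx, rfl⟩
    exact ⟨_, h2, MulAut.apply_inv_self _ α x⟩

/-- **Groups of inner-diagonal automorphisms of `PSL_n(F)`** -/
theorem inner_psl {r p : ℕ} [CharP F r] (hC : Cond r p) (hn : 2 ≤ n) (h4 : n = 2 → 4 ≤ Fintype.card F)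
    (hrow : NCRow p (⊤ : Subgroup (GL (Fin n) F)) fun W => W = ⊥ ∨ W = ⊤)
    {E : Subgroup (MulAut (Matrix.ProjectiveSpecialLinearGroup (Fin n) F))} (hE : IsElementaryAbelian p E)
    (hc : p ^ 2 ≤ Nat.card E) (hin : ∀ α ∈ E, ∃ a : GL (Fin n) F, Psi n F a = α) : Gam p E = ⊤ := by
  have hp : Fact p.Prime := ⟨hC.p_prime⟩
  set A : Subgroup (GL (Fin n) F) := E.comap (Psi n F) with hA
  have hmap : A.map (Psi n F) = E := by
    apply le_antisymm
    · rintro _ ⟨a, ha, rfl⟩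
      exact ha
    · intro α hα
      obtain ⟨a, rfl⟩ := hin α hα
      exact ⟨a, hα, rfl⟩
  have hker : (Psi n F).ker ≤ A := fun a ha => by
    rw [hA, mem_comap, MonoidHom.mem_ker.1 ha]
    exact E.one_mem
  by_cases hirr : ∀ W : Submodule F (Fin n → F), (∀ f ∈ A, ∀ w ∈ W, (f : Matrix (Fin n) (Fin n) F) *ᵥ w ∈ W) → W = ⊥ ∨ W = ⊤
  swap
  · push Not at hirr
    obtain ⟨W, hW, h0, h1⟩ := hirr
    refine reducible hC hn h4 hE hc h0 h1 fun α hα => ?_
    obtain ⟨a, rfl⟩ := hin α hα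
    exact ⟨a, rfl, hW a hα, hW a⁻¹ (A.inv_mem hα)⟩
  by_cases hcomm : ∀ x ∈ A, ∀ y ∈ A, x * y = y * x
  · exfalso
    have hnt : Nontrivial (Fin n → F) := by
      have : Nonempty (Fin n) := ⟨⟨0, by omega⟩⟩
      infer_instance
    let f : ↥A →* Module.End F (Fin n → F) :=
      ((Matrix.toLinAlgEquiv' : Matrix (Fin n) (Fin n) F ≃ₐ[F] _) : Matrix (Fin n) (Fin n) F →* _).comp
        ((Units.coeHom _).comp A.subtype)
    have hf : ∀ (a : ↥A) v, f a v = ((a : GL (Fin n) F) : Matrix (Fin n) (Fin n) F) *ᵥ v := fun a v => rfl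
    have hcyc := cyclic_of_irred f (fun a b h => by
      apply Subtype.ext
      apply gl_ext
      intro v
      rw [← hf, ← hf, h]) (fun a b => by
      rw [← map_mul, ← map_mul]
      congr 1
      exact Subtype.ext (hcomm a a.2 b b.2)) (fun W hW => hirr W fun a ha w hw => hW ⟨a, ha⟩ w hw)
    refine not_cyclic hE hc ?_
    rw [← hmap]
    let g : ↥A →* ↥(A.map (Psi n F)) := (Psi n F).subgroupMap A
    exact isCyclic_of_surjective g ((Psi n F).subgroupMap_surjective A)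
  · push Not at hcomm
    rw [← hmap]
    refine gam_of_lin (Psi n F) (⊤ ⊓ Geo.specialLinear (Fin n) F) piL piL_surj ?_ A hker ?_
    · intro γ s t hst
      show pr (cj γ (toSL s)) = pr (toSL t)
      congr 1
      apply Subtype.ext
      rw [coe_cj]
      have h1 := congrArg (fun g : GL (Fin n) F => (g : Matrix (Fin n) (Fin n) F)) hst
      exact h1.symm
    · rw [ker_Psi hn]
      refine hrow A le_top (by rw [← ker_Psi hn]; exact hker) ?_ ?_ hcomm hirr
      · intro x hx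
        have h1 : x ^ p ∈ (Psi n F).ker := by
          rw [MonoidHom.mem_ker, map_pow]
          exact hE.2 _ hx
        rw [ker_Psi hn, top_inf_eq] at h1
        exact h1
      · intro x hx y hy
        have h1 : x * y * x⁻¹ * y⁻¹ ∈ (Psi n F).ker := by
          rw [MonoidHom.mem_ker, map_mul, map_mul, map_mul, map_inv, map_inv]
          have h2 : Psi n F x * Psi n F y = Psi n F y * Psi n F x :=
            congrArg (fun z : ↥E => (z : MulAut (Matrix.ProjectiveSpecialLinearGroup (Fin n) F)))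
              (hE.1.1.1 ⟨_, hx⟩ ⟨_, hy⟩)
          rw [h2]
          group
        rw [ker_Psi hn, top_inf_eq] at h1
        exact h1

end row

end Cfsg.Agent.H490.Gen
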